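import Cfsg.Agent.CITTwoP.Basic
import Cfsg.Agent.CIT.SLTwoEven
import Cfsg.Agent.CIT.TorusOrders
import Cfsg.Agent.CIT.SimpleFacts
import Mathlib.FieldTheory.Finite.Basic

/-!
A group with elements of even order and of order divisible by `p` of order dividing `2p` has no
proper normal subgroup `SL₂(2ⁿ)` with trivial centraliser.
-/

set_option autoImplicit false
set_option linter.style.haveILetI false

namespace CfsgLib.CITTwoP

open CfsgLib.SL2

variable {F : Type*} [Field F] [Fintype F] [CharP F 2]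

local notation "SL₂" => Matrix.SpecialLinearGroup (Fin 2) F

omit [Fintype F] in
/-- `(u t · l s)³ = 1` only if `t s = 1`, for `t ≠ 0`. -/
theorem mul_eq_one_of_pow_three {t s : F} (ht : t ≠ 0) (h : (u t * l s : SL₂) ^ 3 = 1) : t * s = 1 := by
  have h2 : (2 : F) = 0 := CharTwo.two_eq_zero
  have e : ((u t * l s : SL₂) ^ 3) 0 1 = 0 := by rw [h]; simp
  simp [pow_succ, Matrix.mul_apply, Fin.sum_univ_two] at e
  have e' : t * ((t * s + 1) * (t * s + 1)) = 0 := by
    linear_combination e - (t * (t * s + 1)) * h2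
  rcases mul_eq_zero.1 e' with h1 | h1
  · exact absurd h1 ht
  · have h3 := mul_self_eq_zero.1 h1
    linear_combination h3 - h2

omit [Fintype F] in
theorem pow_three_of_mul_eq_one {t s : F} (h : t * s = 1) : (u t * l s : SL₂) ^ 3 = 1 := by
  have h2 : (2 : F) = 0 := CharTwo.two_eq_zero
  rw [pow_succ, pow_two]
  have hs : s * t = 1 := by rw [mul_comm]; exact h
  apply ext4 <;> simp [Matrix.mul_apply, Fin.sum_univ_two, h, hs, CharTwo.add_self_eq_zero]

/-- A conjugate of `U` other than `U` is a conjugate of `L` by an element of `U`. -/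
theorem exists_u_conj (σ : SL₂ ≃* SL₂) (hσ : ∀ t, ∃ t', σ (u t) = u t') :
    ∃ c : F, ∀ r, ∃ r', σ (l r) = u c * l r' * (u c)⁻¹ := by
  haveI : Fact (Nat.Prime 2) := ⟨Nat.prime_two⟩
  obtain ⟨g, hg⟩ := CIT.exists_conj_le_U
    ((IsPGroup.of_card (n := 1) (by
      rw [Nat.card_zpowers, pow_one, MulEquiv.orderOf_eq]
      refine orderOf_eq_prime ?_ fun e => ?_
      · rw [pow_two, ← l_add, CharTwo.add_self_eq_zero, l_zero]
      · have := congrArg (fun y : SL₂ => y 1 0) e
        simp at this) : IsPGroup 2 (Subgroup.zpowers (σ (l (1 : F))))))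
  obtain ⟨t₁, ht₁⟩ := hg _ (Subgroup.mem_zpowers _)
  have ht0 : t₁ ≠ 0 := by
    rintro rfl
    rw [u_zero, mul_assoc, inv_mul_eq_one, eq_comm, mul_eq_right] at ht₁
    have := congrArg (fun y : SL₂ => y 1 0) (σ.injective (ht₁.trans σ.map_one.symm))
    simp at this
  -- an element commuting with a non-trivial `u t` is some `u r`
  have hcen : ∀ (y : SL₂) (t : F), t ≠ 0 → y * u t = u t * y → ∃ r, y = u r := by
    intro y t ht e
    have e00 := congrArg (fun z : SL₂ => z 0 0) e
    have e01 := congrArg (fun z : SL₂ => z 0 1) e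
    simp [Matrix.mul_apply, Fin.sum_univ_two] at e00 e01
    have h10 : y 1 0 = 0 := (e00.resolve_left ht)
    have hdiag : y 0 0 = y 1 1 := by
      have : t * (y 0 0 - y 1 1) = 0 := by linear_combination e01
      exact sub_eq_zero.1 ((mul_eq_zero.1 this).resolve_left ht)
    have hdet := det_eq y
    rw [h10, mul_zero, sub_zero, ← hdiag] at hdet
    have h1 : y 0 0 = 1 := by
      have hz : (y 0 0 - 1) * (y 0 0 - 1) = 0 := by
        linear_combination hdet + (1 - y 0 0) * (CharTwo.two_eq_zero (R := F))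
      exact sub_eq_zero.1 (mul_self_eq_zero.1 hz)
    exact ⟨y 0 1, ext4 (by simp [h1]) (by simp) (by simp [h10]) (by simp [← hdiag, h1])⟩
  have hg10 : g 1 0 ≠ 0 := by
    intro h0
    obtain ⟨t', ht'⟩ : ∃ t', σ (l (1 : F)) = u t' := by
      have h1 : g ∈ Subgroup.normalizer ((U : Subgroup SL₂) : Set SL₂) := B_le_normalizer_U h0
      obtain ⟨t', ht'⟩ := mem_U.1 ((Subgroup.mem_normalizer_iff.1 h1 (u t₁)).1 (u_mem_U t₁))
      exact ⟨t', by rw [← ht', ← ht₁]; group⟩
    obtain ⟨a, ha⟩ := hσ 1
    have hc : Commute (σ (l (1 : F))) (σ (u 1)) := by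
      rw [ht', ha]
      show u t' * u a = u a * u t'
      rw [← u_add, ← u_add, add_comm]
    have hc' := hc.map σ.symm.toMonoidHom
    simp only [MulEquiv.coe_toMonoidHom, MulEquiv.symm_apply_apply] at hc'
    have := congrArg (fun y : SL₂ => y 0 0) hc'.eq
    simp [Matrix.mul_apply, Fin.sum_univ_two] at this
  set c := g 0 0 / g 1 0 with hc
  set k := (u c)⁻¹ * g with hk
  have hk00 : k 0 0 = 0 := by
    rw [hk, ← u_neg]
    simp [Matrix.mul_apply, Fin.sum_univ_two, hc]
    field_simp
    ring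
  have hkl : ∀ t : F, ∃ r', k * u t * k⁻¹ = l r' := fun t => ⟨-(k 1 0 * k 1 0 * t), by
    have hdet := det_eq k
    rw [hk00, zero_mul, zero_sub] at hdet
    have h2 : (2 : F) = 0 := CharTwo.two_eq_zero
    apply ext4 <;> simp [Matrix.mul_apply, Fin.sum_univ_two, inv_apply, hk00]
    · linear_combination hdet
    · ring
    · linear_combination hdet⟩
  refine ⟨c, fun r => ?_⟩
  obtain ⟨t, ht⟩ : ∃ t, g⁻¹ * σ (l r) * g = u t := by
    refine hcen _ t₁ ht0 ?_
    rw [← ht₁]
    have : σ (l r) * σ (l 1) = σ (l 1) * σ (l r) := by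
      rw [← map_mul, ← map_mul, ← l_add, ← l_add, add_comm]
    calc g⁻¹ * σ (l r) * g * (g⁻¹ * σ (l 1) * g) = g⁻¹ * (σ (l r) * σ (l 1)) * g := by group
      _ = g⁻¹ * (σ (l 1) * σ (l r)) * g := by rw [this]
      _ = _ := by group
  obtain ⟨r', hr'⟩ := hkl t
  exact ⟨r', by rw [← hr', hk, ← ht]; group⟩

/-- An automorphism fixing `U` pointwise is induced by an element of `U`. -/
theorem exists_conj_u_of_fix (σ : SL₂ ≃* SL₂) (hσ : ∀ t, σ (u t) = u t) :
    ∃ c : F, σ = MulAut.conj (u c) := by
  obtain ⟨c, hc⟩ := exists_u_conj σ fun t => ⟨t, hσ t⟩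
  refine ⟨c, ?_⟩
  set τ : SL₂ ≃* SL₂ := σ.trans (MulAut.conj (u c)⁻¹) with hτ
  have hτu : ∀ t, τ (u t) = u t := fun t => by
    show (u c)⁻¹ * σ (u t) * ((u c)⁻¹)⁻¹ = u t
    rw [hσ, ← u_neg, ← u_neg, ← u_add, ← u_add]
    congr 1
    ring
  have hτl : ∀ r, τ (l r) = l r := fun r => by
    obtain ⟨r', hr'⟩ := hc r
    have e : τ (l r) = l r' := by
      show (u c)⁻¹ * σ (l r) * ((u c)⁻¹)⁻¹ = l r'
      rw [hr']; group
    rcases eq_or_ne r 0 with rfl | hr
    · rw [l_zero, map_one]
    have h3 := congrArg τ (pow_three_of_mul_eq_one (inv_mul_cancel₀ hr))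
    rw [map_pow, map_mul, map_one, hτu, e] at h3
    have := mul_eq_one_of_pow_three (inv_ne_zero hr) h3
    rw [e, show r' = r by
      calc r' = r * (r⁻¹ * r') := by rw [← mul_assoc, mul_inv_cancel₀ hr, one_mul]
        _ = r := by rw [this, mul_one]]
  have htop : (U : Subgroup SL₂) ⊔ L ≤ τ.toMonoidHom.eqLocus (MonoidHom.id _) := by
    refine sup_le (fun x hx => ?_) fun x hx => ?_
    · obtain ⟨t, rfl⟩ := mem_U.1 hx; exact hτu t
    · obtain ⟨t, rfl⟩ := mem_L.1 hx; exact hτl t
  rw [U_sup_L] at htop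
  refine MulEquiv.ext fun x => ?_
  have hx : (u c)⁻¹ * σ x * ((u c)⁻¹)⁻¹ = x := htop (Subgroup.mem_top x)
  show σ x = u c * x * (u c)⁻¹
  conv_rhs => rw [← hx]
  group

variable {G : Type*} [Group G] [Finite G] {p : ℕ}

/-- `SL₂(2ⁿ)` is not a proper normal subgroup with trivial centraliser. -/
theorem eq_top_of_sl_two (h : TwoP p G) (M : Subgroup G) [M.Normal]
    (hC : Subgroup.centralizer (M : Set G) = ⊥) (h4 : 4 ≤ Fintype.card F) (e : M ≃* SL₂) : M = ⊤ := by
  classical
  haveI : Fact (Nat.Prime 2) := ⟨Nat.prime_two⟩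
  haveI : Fact p.Prime := ⟨h.prime⟩
  set ι : SL₂ →* G := M.subtype.comp e.symm.toMonoidHom with hι
  have hinj : Function.Injective ι := Subtype.val_injective.comp e.symm.injective
  have hιM : ∀ x, ι x ∈ M := fun x => (e.symm x).2
  set act : G → (SL₂ ≃* SL₂) := fun g => (e.symm.trans (MulAut.conjNormal g)).trans e with hact
  have hact' : ∀ g x, ι (act g x) = g * ι x * g⁻¹ := fun g x => by simp [hact, hι]
  -- elements centralising `ι U` lie in `M`
  have hfix : ∀ g : G, (∀ t, act g (u t) = u t) → g ∈ M := by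
    intro g hg
    obtain ⟨c, hc⟩ := exists_conj_u_of_fix (act g) hg
    have : (ι (u c))⁻¹ * g ∈ Subgroup.centralizer (M : Set G) := by
      refine Subgroup.mem_centralizer_iff.2 fun m hm => ?_
      obtain ⟨x, rfl⟩ : ∃ x, ι x = m := ⟨e ⟨m, hm⟩, by simp [hι]⟩
      have h1 := hact' g x
      rw [hc, MulAut.conj_apply, map_mul, map_mul, map_inv] at h1
      calc ι x * ((ι (u c))⁻¹ * g)
          = (ι (u c))⁻¹ * (ι (u c) * ι x * (ι (u c))⁻¹) * g := by group
        _ = (ι (u c))⁻¹ * (g * ι x * g⁻¹) * g := by rw [h1]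
        _ = (ι (u c))⁻¹ * g * ι x := by group
    rw [hC, Subgroup.mem_bot, inv_mul_eq_one] at this
    exact this ▸ hιM _
  set S := (U : Subgroup SL₂).map ι with hS
  have hSp : IsPGroup 2 S := (IsPGroup.map (isPGroup_U (p := 2)) ι)
  -- every 2-element lies in `M`
  have hSM : ∀ P : Sylow 2 G, S ≤ (P : Subgroup G) → ∀ s ∈ (P : Subgroup G), s ∈ M := by
    intro P hP s hs
    refine hfix s fun t => hinj ?_
    rw [hact', (commute_of_sq h.prime h.odd (h.sylow_sq P) hs
      (hP ⟨u t, u_mem_U t, rfl⟩)).eq, mul_inv_cancel_right]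
  obtain ⟨P₀, hP₀⟩ := hSp.exists_le_sylow
  have htwo : ∀ (g : G) (k : ℕ), orderOf g = 2 ^ k → g ∈ M := by
    intro g k hg
    obtain ⟨Q, hQ⟩ := (IsPGroup.of_card (n := k) (by rw [Nat.card_zpowers, hg]) :
      IsPGroup 2 (Subgroup.zpowers g)).exists_le_sylow
    obtain ⟨c, hc⟩ := MulAction.exists_smul_eq G Q P₀
    have h1 : c * g * c⁻¹ ∈ (P₀ : Subgroup G) := hc ▸ ⟨g, hQ (Subgroup.mem_zpowers g), rfl⟩
    have h2 := (inferInstance : M.Normal).conj_mem _ (hSM P₀ hP₀ _ h1) c⁻¹
    simpa [mul_assoc] using h2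
  set z := ι (u (1 : F)) with hz
  have hzo : orderOf z = 2 := by
    rw [hz, orderOf_injective ι hinj]
    refine orderOf_eq_prime (by rw [pow_two, CIT.u_mul_self]) fun e1 => one_ne_zero (u_eq_one_iff.1 e1)
  -- the odd elements commuting with `z` lie in `M`
  have hodd : ∀ y : G, Commute z y → Odd (orderOf y) → y ∈ M := by
    intro y hy hyo
    by_contra hyM
    have hyp : y ^ p = 1 := h.pow_of_commute_two hzo hy hyo
    have hy1 : y ≠ 1 := fun e1 => hyM (e1 ▸ one_mem M)
    have hyu1 : act y (u 1) = u 1 := hinj (by rw [hact', ← hz, hy.symm.eq, mul_inv_cancel_right])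
    -- `y` normalises `U`
    have hyU : ∀ t, ∃ t', act y (u t) = u t' := by
      intro t
      have hc : Commute (act y (u t)) (u 1) := by
        rw [← hyu1]
        refine (show Commute (u t) (u 1) from ?_).map (act y).toMonoidHom
        show u t * u 1 = u 1 * u t
        rw [← u_add, ← u_add, add_comm]
      set x := act y (u t)
      have e00 := congrArg (fun w : SL₂ => w 0 0) hc.eq
      have e01 := congrArg (fun w : SL₂ => w 0 1) hc.eq
      simp [Matrix.mul_apply, Fin.sum_univ_two] at e00 e01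
      have hdet := det_eq x
      rw [e00, mul_zero, sub_zero] at hdet
      have hdiag : x 0 0 = x 1 1 := by linear_combination e01
      rw [← hdiag] at hdet
      have h1 : x 0 0 = 1 := by
        have hz' : (x 0 0 - 1) * (x 0 0 - 1) = 0 := by
          linear_combination hdet + (1 - x 0 0) * (CharTwo.two_eq_zero (R := F))
        exact sub_eq_zero.1 (mul_self_eq_zero.1 hz')
      exact ⟨x 0 1, ext4 (by simp [h1]) (by simp) (by simp [e00]) (by simp [← hdiag, h1])⟩
    -- `y` fixes one of the `q` conjugates of `U` other than `U`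
    have hc₀ : ∀ c : F, ∃! c' : F, ∀ r, ∃ r', act y (u c * l r * (u c)⁻¹) = u c' * l r' * (u c')⁻¹ := by
      intro c
      obtain ⟨c', hc'⟩ := exists_u_conj ((MulAut.conj (u c) : SL₂ ≃* SL₂).trans (act y)) fun t => by
        obtain ⟨t', ht'⟩ := hyU t
        refine ⟨t', ?_⟩
        show act y (u c * u t * (u c)⁻¹) = u t'
        rw [← u_neg, ← u_add, ← u_add, show c + t + -c = t by ring, ht']
      refine ⟨c', hc', fun c'' hc'' => ?_⟩
      obtain ⟨a, ha⟩ := hc' 1
      obtain ⟨b, hb⟩ := hc'' 1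
      have ha0 : a ≠ 0 := by
        rintro rfl
        rw [l_zero, mul_one, mul_inv_cancel] at ha
        have := (act y).injective (ha.trans (map_one _).symm)
        have this' : u c * l (1 : F) * (u c)⁻¹ = 1 := this
        rw [conj_eq_one_iff] at this'
        exact one_ne_zero (l_injective (this'.trans l_zero.symm))
      have hab : u c' * l a * (u c')⁻¹ = u c'' * l b * (u c'')⁻¹ := ha.symm.trans hb
      have e1 : l a = u (c'' - c') * l b * (u (c'' - c'))⁻¹ := by
        rw [sub_eq_neg_add, u_add, u_neg]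
        calc l a = (u c')⁻¹ * (u c' * l a * (u c')⁻¹) * u c' := by group
          _ = _ := by rw [hab]; group
      set d := c'' - c' with hd
      have e01 := congrArg (fun w : SL₂ => w 0 1) e1
      have e00 := congrArg (fun w : SL₂ => w 0 0) e1
      rw [← u_neg] at e01 e00
      simp [Matrix.mul_apply, Fin.sum_univ_two] at e01 e00
      rcases eq_or_ne d 0 with hd0 | hd0
      · exact sub_eq_zero.1 hd0
      exfalso
      have hb0 : b = 0 := by
        rcases e00 with h1 | h1
        · exact absurd h1 hd0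
        · exact h1
      rw [hb0, l_zero, mul_one, mul_inv_cancel] at hb
      have := (act y).injective (hb.trans (map_one _).symm)
      simp only [conj_eq_one_iff] at this
      exact one_ne_zero (l_injective (this.trans l_zero.symm))
    choose f hf hfu using hc₀
    obtain ⟨c, hc⟩ : ∃ c, f c = c := by
      let π : F → F := f
      have hiter : ∀ (n : ℕ) (c : F), ∀ r, ∃ r',
          act (y ^ n) (u c * l r * (u c)⁻¹) = u (π^[n] c) * l r' * (u (π^[n] c))⁻¹ := by
        intro n
        induction n with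
        | zero => intro c r; exact ⟨r, hinj (by rw [hact']; simp)⟩
        | succ n ih =>
          intro c r
          obtain ⟨r₁, hr₁⟩ := ih c r
          obtain ⟨r₂, hr₂⟩ := hf (π^[n] c) r₁
          refine ⟨r₂, hinj ?_⟩
          rw [Function.iterate_succ_apply']
          show _ = ι (u (f (π^[n] c)) * l r₂ * (u (f (π^[n] c)))⁻¹)
          rw [← hr₂, ← hr₁, hact', hact', hact', pow_succ', mul_inv_rev]
          group
      have hper : ∀ c, π^[p] c = c := by
        intro c
        have key : ∀ r, ∃ r', u c * l r * (u c)⁻¹ = u (π^[p] c) * l r' * (u (π^[p] c))⁻¹ := fun r => by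
          obtain ⟨r', hr'⟩ := hiter p c r
          refine ⟨r', ?_⟩
          rw [← hr', hyp]
          exact hinj (by rw [hact']; simp)
        obtain ⟨b, hb⟩ := key 1
        set d := π^[p] c - c with hd
        have e1 : l (1 : F) = u d * l b * (u d)⁻¹ := by
          rw [hd, sub_eq_neg_add, u_add, u_neg]
          calc l (1 : F) = (u c)⁻¹ * (u c * l 1 * (u c)⁻¹) * u c := by group
            _ = _ := by rw [hb]; group
        have e00 := congrArg (fun w : SL₂ => w 0 0) e1
        have e10 := congrArg (fun w : SL₂ => w 1 0) e1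
        rw [← u_neg] at e00 e10
        simp [Matrix.mul_apply, Fin.sum_univ_two] at e00 e10
        rcases e00 with h1 | h1
        · exact sub_eq_zero.1 h1
        · exact absurd (e10.trans h1) one_ne_zero
      by_contra hno
      simp only [not_exists] at hno
      let σ : Equiv.Perm F := ⟨π, π^[p - 1], fun c => by
          rw [← Function.iterate_succ_apply, show (p - 1).succ = p by have := h.prime.pos; omega, hper],
        fun c => by
          rw [← Function.iterate_succ_apply' π, show (p - 1).succ = p by have := h.prime.pos; omega, hper]⟩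
      have hσ : σ ^ p = 1 := Equiv.ext fun c => by
        show (σ ^ p) c = c
        rw [Equiv.Perm.coe_pow]
        exact hper c
      obtain ⟨n, -, hn⟩ := FiniteField.card F 2
      obtain ⟨c, hc⟩ := Equiv.Perm.exists_fixed_point_of_prime (p := p) (n := 1) (σ := σ)
        (by
          rw [hn]
          exact fun hd => h.odd ((Nat.prime_dvd_prime_iff_eq h.prime Nat.prime_two).1
            (h.prime.dvd_of_dvd_pow hd)))
        (by rw [pow_one]; exact hσ)
      exact hno c hc
    -- so `y` centralises an element of order three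
    obtain ⟨r', hr'⟩ := hf c 1
    rw [hc] at hr'
    have huc : act y (u (c + 1) * (u c)⁻¹) = u (c + 1) * (u c)⁻¹ := by
      rw [← u_neg, ← u_add, show c + 1 + -c = 1 by ring]; exact hyu1
    have hone : (u c * (u 1 * l (1 : F)) * (u c)⁻¹ : SL₂) ^ 3 = 1 := by
      rw [conj_pow, pow_three_of_mul_eq_one (one_mul _), mul_one, mul_inv_cancel]
    have e1 : u c * (u 1 * l (1 : F)) * (u c)⁻¹ = u 1 * (u c * l 1 * (u c)⁻¹) := by
      rw [← mul_assoc, ← u_add, add_comm, u_add]; group
    have e3 := congrArg (act y) hone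
    rw [map_pow, map_one, e1, map_mul, hyu1, hr',
      show u 1 * (u c * l r' * (u c)⁻¹) = u c * (u 1 * l r') * (u c)⁻¹ by
        rw [← mul_assoc, ← mul_assoc (u 1), ← mul_assoc (u c) (u 1), ← u_add, ← u_add, add_comm 1 c],
      conj_pow, conj_eq_one_iff] at e3
    have hr1 : r' = 1 := by have := mul_eq_one_of_pow_three one_ne_zero e3; rwa [one_mul] at this
    set w := ι (u 1 * (u c * l 1 * (u c)⁻¹)) with hw
    have hwy : Commute y w := by
      refine mul_inv_eq_iff_eq_mul.1 ?_
      rw [hw, ← hact', map_mul, hyu1, hr', hr1]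
    have hw3 : orderOf w = 3 := by
      haveI : Fact (Nat.Prime 3) := ⟨Nat.prime_three⟩
      rw [hw, orderOf_injective ι hinj]
      refine orderOf_eq_prime (by rw [← e1]; exact hone) fun e2 => ?_
      rw [← e1, conj_eq_one_iff] at e2
      have := congrArg (fun v : SL₂ => v 1 0) e2
      simp [Matrix.mul_apply, Fin.sum_univ_two] at this
    have hw1 : w ^ p = 1 := h.pow_of_commute_self hyp hy1 hwy (by rw [hw3]; decide)
    have hp3 : p = 3 := by
      have := orderOf_dvd_of_pow_eq_one hw1
      rw [hw3] at this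
      exact ((Nat.prime_dvd_prime_iff_eq Nat.prime_three h.prime).1 this).symm
    subst hp3
    -- `q = 4`
    have hq4 : Fintype.card F = 4 := by
      obtain ⟨n, -, hn⟩ := FiniteField.card F 2
      have hpar : 2 ∣ Fintype.card F := hn ▸ dvd_pow_self 2 n.ne_zero
      obtain ⟨a, ha⟩ := CIT.exists_orderOf_sub_one (F := F)
      obtain ⟨b, hb⟩ := CIT.exists_orderOf_add_one (F := F)
      have key : ∀ x : SL₂, 3 ∣ orderOf x → ¬ 2 ∣ orderOf x → orderOf x ≤ 3 := fun x h3 h2 => by
        have h1 := h.self (ι x) (by rwa [orderOf_injective ι hinj])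
        rw [← map_pow, ← map_one ι, hinj.eq_iff, ← orderOf_dvd_iff_pow_eq_one] at h1
        exact Nat.le_of_dvd (by norm_num)
          ((Nat.Coprime.dvd_mul_left ((Nat.prime_two.coprime_iff_not_dvd.2 h2).symm)).1 h1)
      have hmod : 3 ∣ Fintype.card F - 1 ∨ 3 ∣ Fintype.card F + 1 := by
        have h0 : Fintype.card F % 3 ≠ 0 := fun hd => by
          have hd' := Nat.dvd_of_mod_eq_zero hd
          rw [hn] at hd'
          have := (Nat.prime_dvd_prime_iff_eq Nat.prime_three Nat.prime_two).1
            (Nat.prime_three.dvd_of_dvd_pow hd')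
          omega
        rcases (by omega : Fintype.card F % 3 = 1 ∨ Fintype.card F % 3 = 2) with h | h
        · left; omega
        · right; omega
      rcases hmod with h3 | h3
      · have := key a (ha ▸ h3) (by rw [ha]; omega)
        omega
      · have := key b (hb ▸ h3) (by rw [hb]; omega)
        omega
    refine hyM (hfix y fun t => ?_)
    -- a permutation of order dividing three fixing `0`, `1` of four points
    choose k hk using hyU
    have hk0 : k 0 = 0 := by
      have h1 := hk 0
      rw [u_zero, map_one] at h1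
      exact u_eq_one_iff.1 h1.symm
    have hk1 : k 1 = 1 := u_injective ((hk 1).symm.trans hyu1)
    have hk3 : k (k (k t)) = t := by
      refine u_injective (hinj ?_)
      rw [← hk, hact', ← hk, hact', ← hk, hact']
      calc y * (y * (y * ι (u t) * y⁻¹) * y⁻¹) * y⁻¹ = y ^ 3 * ι (u t) * (y ^ 3)⁻¹ := by
            simp [pow_succ, mul_assoc]
        _ = ι (u t) := by rw [hyp]; simp
    have hkinj : Function.Injective k := fun a b e1 =>
      u_injective ((act y).injective (by rw [hk, hk, e1]))
    rw [hk t]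
    congr 1
    by_contra hne
    have ht0 : t ≠ 0 := fun e1 => hne (by rw [e1, hk0])
    have ht1 : t ≠ 1 := fun e1 => hne (by rw [e1, hk1])
    have k0 : k t ≠ 0 := fun e1 => ht0 (hkinj (e1.trans hk0.symm))
    have k1 : k t ≠ 1 := fun e1 => ht1 (hkinj (e1.trans hk1.symm))
    have kk0 : k (k t) ≠ 0 := fun e1 => k0 (hkinj (e1.trans hk0.symm))
    have kk1 : k (k t) ≠ 1 := fun e1 => k1 (hkinj (e1.trans hk1.symm))
    have n1 : k (k t) ≠ k t := fun e1 => hne (hkinj e1)
    have n2 : k (k t) ≠ t := fun e1 => hne (by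
      have := congrArg k e1
      rw [hk3] at this
      exact this.symm)
    have hle := Finset.card_le_univ ({0, 1, t, k t, k (k t)} : Finset F)
    rw [hq4, Finset.card_insert_of_notMem, Finset.card_insert_of_notMem,
      Finset.card_insert_of_notMem, Finset.card_insert_of_notMem, Finset.card_singleton] at hle
    · omega
    all_goals simp only [Finset.mem_insert, Finset.mem_singleton, not_or]
    · exact Ne.symm n1
    · exact ⟨Ne.symm hne, Ne.symm n2⟩
    · exact ⟨Ne.symm ht1, Ne.symm k1, Ne.symm kk1⟩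
    · exact ⟨zero_ne_one, Ne.symm ht0, Ne.symm k0, Ne.symm kk0⟩
  -- conclude
  rw [eq_top_iff]
  intro g _
  obtain ⟨x, hx⟩ := isConj_iff.1 ((CIT.oneClass_sl_two (F := F)).2 (act g (u 1)) (u 1)
    (by rw [MulEquiv.orderOf_eq, ← orderOf_injective ι hinj, ← hz, hzo])
    (by rw [← orderOf_injective ι hinj, ← hz, hzo]))
  set g' := ι x * g with hg'
  have hg'z : Commute z g' := by
    have h1 := congrArg ι hx
    rw [map_mul, map_mul, map_inv, hact', ← hz] at h1
    refine (show Commute g' z from mul_inv_eq_iff_eq_mul.1 ?_).symm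
    calc g' * z * g'⁻¹ = ι x * (g * z * g⁻¹) * (ι x)⁻¹ := by rw [hg']; group
      _ = z := h1
  obtain ⟨i, d, hd, hgd⟩ := Nat.exists_eq_two_pow_mul_odd (orderOf_pos g').ne'
  have ho1 : orderOf (g' ^ d) = 2 ^ i := by
    rw [orderOf_pow' _ (by rintro rfl; exact absurd hd (by decide)), hgd,
      Nat.gcd_eq_right (dvd_mul_left _ _), Nat.mul_div_cancel _ hd.pos]
  have ho2 : orderOf (g' ^ (2 ^ i)) = d := by
    rw [orderOf_pow' _ (by positivity), hgd, Nat.gcd_eq_right (dvd_mul_right _ _),
      Nat.mul_div_cancel_left _ (by positivity)]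
  have m1 := htwo _ i ho1
  have m2 := hodd _ (hg'z.pow_right _) (ho2.symm ▸ hd)
  have hg'M : g' ∈ M := by
    have hco : Int.gcd (d : ℕ) (2 ^ i : ℕ) = 1 := by
      rw [Int.gcd_natCast_natCast]; exact ((Nat.coprime_two_left.2 hd).pow_left i).symm
    have := Int.gcd_eq_gcd_ab (d : ℕ) (2 ^ i : ℕ)
    rw [hco, Nat.cast_one] at this
    rw [← zpow_one g', this, zpow_add, zpow_mul, zpow_mul, zpow_natCast, zpow_natCast]
    exact mul_mem (zpow_mem m1 _) (zpow_mem m2 _)
  rw [show g = (ι x)⁻¹ * g' by rw [hg']; group]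
  exact mul_mem (inv_mem (hιM x)) hg'M

end CfsgLib.CITTwoP
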