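import Cfsg.Agent.CITTwoP.Transitivity
import Cfsg.Agent.StronglyEmbedded.Criteria
import Cfsg.Agent.RankOne.Classify.GlueBender
import Cfsg.Agent.RankOne.Classify.PiecesProof
import Cfsg.Agent.StrongEmb.RegularCoreFinal
import Cfsg.Agent.StrongEmb.Glue
import Cfsg.Agent.S0205
import Cfsg.Agent.S0508
import Mathlib.GroupTheory.SpecificGroups.KleinFour

/-!
Simple groups with elements of even order, and of order divisible by an odd prime `p`, of order
dividing `2p`: they are `PSL₂(2ⁿ)` or `PSL₂(q)`, `q` odd.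
-/

set_option autoImplicit false
set_option linter.style.haveILetI false

universe u

namespace CfsgLib.CITTwoP

open Cfsg CfsgLib.RankOneClassify

variable {G : Type u} [Group G] [Finite G] {p : ℕ}

/-- A simple group with a strongly embedded subgroup and a Sylow 2-subgroup of exponent two. -/
theorem list_of_stronglyEmbedded [IsSimpleGroup G] (T : Sylow 2 G)
    (hT : ∀ x ∈ (T : Subgroup G), x * x = 1) {H : Subgroup G} (hH : IsStronglyEmbedded H) :
    ∃ (F : Type) (_ : Field F) (_ : Fintype F) (n : ℕ), 2 ≤ n ∧ Fintype.card F = 2 ^ n ∧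
      Nonempty (G ≃* Matrix.ProjectiveSpecialLinearGroup (Fin 2) F) := by
  classical
  haveI : Fact (Nat.Prime 2) := ⟨Nat.prime_two⟩
  obtain ⟨h2, hcore⟩ := rankTwo_of_simple hH
  obtain ⟨Q, hQ, hQ2, -⟩ := (StrongEmb.pPlus_all StrongEmb.regularQAll) G H hH h2 hcore
  haveI := StrongEmb.faithfulSMul_quotient hcore
  obtain ⟨t, ht, htH⟩ := StrongEmb.exists_involution_not_mem hH
  have hS := StrongEmb.isRankOneSetup hH hQ ht htH
  have hd : Data G (G ⧸ H) ((1 : G) : G ⧸ H) t Q := ⟨hS, inferInstance, h2.exists_pair, hQ2⟩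
  have hQc : ∀ x ∈ Q, ∀ y ∈ Q, x * y = y * x := by
    obtain ⟨P, hP⟩ := hQ2.exists_le_sylow
    obtain ⟨g, hg⟩ := MulAction.exists_smul_eq G P T
    intro x hx y hy
    have hm : ∀ z ∈ Q, g * z * g⁻¹ ∈ (T : Subgroup G) := fun z hz => hg ▸ ⟨z, hP hz, rfl⟩
    have hsq : ∀ z ∈ Q, z * z = 1 := fun z hz => by
      have h1 := hT _ (hm z hz)
      rwa [show g * z * g⁻¹ * (g * z * g⁻¹) = g * (z * z) * g⁻¹ by group, conj_eq_one_iff] at h1
    have h := hsq _ (mul_mem hy hx)
    rw [← eq_inv_iff_mul_eq_one, mul_inv_rev, inv_eq_of_mul_eq_one_right (hsq x hx),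
      inv_eq_of_mul_eq_one_right (hsq y hy)] at h
    exact h.symm
  have hNq := hd.abelian_elementary hQc
  obtain ⟨r, hr, hq⟩ := hd.exists_q_pow
  obtain ⟨L, hL, hodd, hQL, htL, hV⟩ := hd.exists_reduced (hd.W_trivial_small (Or.inl hNq))
    (Or.inl hNq)
  obtain ⟨-, F, iF, iT, hF, ⟨e⟩⟩ := (hd.normal hL htL hQL).abelian_case hV
    fun x hx y hy => Subtype.ext (hQc x hx y hy)
  rw [Nat.card_congr (Subgroup.subgroupOfEquivOfLe hQL).toEquiv, hNq, hq] at hF
  have htop : L = ⊤ := hL.eq_bot_or_eq_top.resolve_left fun h0 => by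
    rw [h0, Subgroup.index_bot] at hodd
    exact Nat.not_even_iff_odd.mpr hodd (even_card_of_stronglyEmbedded hH)
  subst htop
  haveI : CharP F 2 := charP_of_card_eq_prime_pow hF
  obtain ⟨e'⟩ := Dickson.psl_equiv_pgl (F := F)
  exact ⟨F, iF, iT, r, hr, hF, ⟨Subgroup.topEquiv.symm.trans (e.trans e'.symm)⟩⟩

section Simple

variable [IsSimpleGroup G]

theorem not_normalizer_le_centralizer (hna : ¬ IsMulCommutative G) (T : Sylow 2 G) :
    ¬ Subgroup.normalizer (T : Set G) ≤ Subgroup.centralizer (T : Set G) := by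
  haveI : Fact (Nat.Prime 2) := ⟨Nat.prime_two⟩
  intro hle
  obtain ⟨N, hN, hNodd, k, hk⟩ := Cfsg.Agent.S0514.burnside T hle
  refine hna ⟨⟨?_⟩⟩
  rcases hN.eq_bot_or_eq_top with e | e
  · rw [e, Subgroup.index_bot] at hk
    haveI : Group.IsNilpotent G := (IsPGroup.of_card (n := k) hk).isNilpotent
    exact IsSimpleGroup.comm_iff_isSolvable.2 inferInstance
  · rw [e, Subgroup.card_top] at hNodd
    exact IsSimpleGroup.comm_iff_isSolvable.2 (Cfsg.Agent.S0205.result hNodd)

theorem normalizer_ne_top (hna : ¬ IsMulCommutative G) {X : Subgroup G} (hX : X ≠ ⊥)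
    (hXs : Group.IsSolvable ↥X) : Subgroup.normalizer (X : Set G) ≠ ⊤ := by
  intro e
  haveI := Subgroup.normalizer_eq_top_iff.1 e
  have htop : X = ⊤ := (‹X.Normal›.eq_bot_or_eq_top).resolve_left hX
  refine hna ⟨⟨?_⟩⟩
  subst htop
  exact IsSimpleGroup.comm_iff_isSolvable.2
    (Group.isSolvable_of_surjective (f := (⊤ : Subgroup G).subtype)
      (fun x => ⟨⟨x, Subgroup.mem_top x⟩, rfl⟩))

theorem four_le_card_sylow (hna : ¬ IsMulCommutative G) (h : TwoP p G) (T : Sylow 2 G) :
    4 ≤ Nat.card (T : Subgroup G) := by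
  classical
  haveI : Fact (Nat.Prime 2) := ⟨Nat.prime_two⟩
  obtain ⟨k, hk⟩ := card_sylow_two_pow h T
  by_contra hlt
  refine not_normalizer_le_centralizer hna T fun g hg => ?_
  rw [Subgroup.mem_centralizer_iff]
  intro t ht
  have hk2 : k ≤ 1 := by
    by_contra hk2
    have := Nat.pow_le_pow_right (show 0 < 2 by norm_num) (show 2 ≤ k by omega)
    omega
  rcases eq_or_ne t 1 with rfl | ht1
  · simp
  haveI := Fintype.ofFinite ↥(T : Subgroup G)
  have hgt : g * t * g⁻¹ ∈ (T : Subgroup G) := (Subgroup.mem_normalizer_iff.1 hg t).1 ht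
  have hgt1 : g * t * g⁻¹ ≠ 1 := fun e => ht1 (conj_eq_one_iff.1 e)
  have h2 : Nat.card (T : Subgroup G) ≤ 2 := by
    rw [hk]; exact (Nat.pow_le_pow_right two_pos hk2).trans (by norm_num)
  have heq : g * t * g⁻¹ = t := by
    by_contra hne
    have hs : ({1, ⟨t, ht⟩, ⟨_, hgt⟩} : Finset ↥(T : Subgroup G)).card = 3 :=
      Finset.card_eq_three.2 ⟨_, _, _, fun e => ht1 (congrArg Subtype.val e).symm,
        fun e => hgt1 (congrArg Subtype.val e).symm, fun e => hne (congrArg Subtype.val e).symm, rfl⟩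
    have := Finset.card_le_univ ({1, ⟨t, ht⟩, ⟨_, hgt⟩} : Finset ↥(T : Subgroup G))
    rw [hs, ← Nat.card_eq_fintype_card] at this
    omega
  exact (mul_inv_eq_iff_eq_mul.1 heq).symm

variable (h : TwoP p G) (T : Sylow 2 G)
include h

omit [IsSimpleGroup G] in
theorem exists_top_centralizer (h4 : 4 ≤ Nat.card (T : Subgroup G)) {t : G}
    (ht : t ∈ (T : Subgroup G)) (ht1 : t ≠ 1) :
    ∃ L : Subgroup G, TInv p (T : Subgroup G) L ∧
      coreP p (Subgroup.centralizer ({t} : Set G)) ≤ L ∧ (∀ x ∈ L, Commute t x) ∧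
      ∀ X : Subgroup G, TInv p (T : Subgroup G) X → (∀ x ∈ X, Commute t x) → X ≤ L := by
  obtain ⟨L, hLC, hL, hK, hmax⟩ := exists_top h.prime h.odd T (h.sylow_sq T)
    (h.narrow_centralizer (orderOf_two_of_mem h T ht ht1)) (sylow_le_centralizer_singleton h T ht)
    le_rfl Subgroup.le_normalizer (narrow_of_le_centralizer_sylow h T h4 _)
  exact ⟨L, hL, hK, fun x hx => (Subgroup.mem_centralizer_singleton_iff.1 (hLC hx)).symm,
    fun X hX hc => hmax X hX fun x hx => Subgroup.mem_centralizer_singleton_iff.2 (hc x hx).symm.eq⟩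

omit [IsSimpleGroup G] in
omit [IsSimpleGroup G] in
/-- `M` is strongly embedded if it contains `N(T)` and every `O_p(C(t))`. -/
theorem isStronglyEmbedded_of (h4 : 4 ≤ Nat.card (T : Subgroup G)) {M : Subgroup G} (hM : M ≠ ⊤)
    (hN : Subgroup.normalizer ((T : Subgroup G) : Set G) ≤ M)
    (hK : ∀ t ∈ (T : Subgroup G), t ≠ 1 → coreP p (Subgroup.centralizer ({t} : Set G)) ≤ M) :
    IsStronglyEmbedded M := by
  haveI : Fact (Nat.Prime 2) := ⟨Nat.prime_two⟩
  have hTM : (T : Subgroup G) ≤ M := Subgroup.le_normalizer.trans hN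
  have hC : ∀ t ∈ (T : Subgroup G), t ≠ 1 → Subgroup.centralizer ({t} : Set G) ≤ M := by
    intro t ht ht1 c hc
    obtain ⟨k, hk, hkc⟩ := exists_core_mul_mem_normalizer h.prime h.odd T (h.sylow_sq T)
      (h.narrow_centralizer (orderOf_two_of_mem h T ht ht1)) (sylow_le_centralizer_singleton h T ht) hc
    rw [show c = k⁻¹ * (k * c) by group]
    exact mul_mem (inv_mem (hK t ht ht1 hk)) (hN hkc)
  refine StronglyEmbedded.intro_of_sylow hM T hTM (fun e => ?_) fun Q hQT hQ g hg => ?_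
  · rw [e, Subgroup.card_bot] at h4; omega
  obtain ⟨q, hq, hq1⟩ := Q.bot_or_exists_ne_one.resolve_left hQ
  set C := Subgroup.centralizer (Q : Set G) with hCdef
  have hCM : C ≤ M := fun c hc => hC q (hQT hq) hq1
    (Subgroup.mem_centralizer_singleton_iff.2 (Subgroup.mem_centralizer_iff.1 hc q hq).symm)
  have hTC : (T : Subgroup G) ≤ C := fun s hs => Subgroup.mem_centralizer_iff.2 fun x hx =>
    (commute_of_sq h.prime h.odd (h.sylow_sq T) (hQT hx) hs).eq
  set T' : Sylow 2 G := g • T with hT'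
  have hT'C : (T' : Subgroup G) ≤ C := by
    rintro _ ⟨s, hs, rfl⟩
    refine Subgroup.mem_centralizer_iff.2 fun x hx => ?_
    have h1 : g⁻¹ * x * g ∈ Q := (Subgroup.mem_normalizer_iff.1 hg _).2 (by simpa [mul_assoc] using hx)
    have h2 := Subgroup.mem_centralizer_iff.1 (hTC hs) _ h1
    show x * (g * s * g⁻¹) = g * s * g⁻¹ * x
    calc x * (g * s * g⁻¹) = g * ((g⁻¹ * x * g) * s) * g⁻¹ := by group
      _ = g * (s * (g⁻¹ * x * g)) * g⁻¹ := by rw [h2]
      _ = g * s * g⁻¹ * x := by group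
  obtain ⟨c, hc⟩ := MulAction.exists_smul_eq (↥C) (T'.subtype hT'C) (T.subtype hTC)
  have hc' : (c : G) • T' = T := by
    refine Sylow.subtype_injective (hP := ?_) (hQ := hTC) (N := C) ?_
    · exact fun x hx => by
        obtain ⟨y, hy, rfl⟩ := hx
        exact mul_mem (mul_mem c.2 (hT'C hy)) (inv_mem c.2)
    · rw [← hc, Sylow.smul_subtype]; rfl
  have hcg : (c : G) * g ∈ M := hN (Sylow.smul_eq_iff_mem_normalizer.1 (by rw [mul_smul]; exact hc'))
  rw [show g = (c : G)⁻¹ * ((c : G) * g) by group]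
  exact mul_mem (inv_mem (hCM c.2)) hcg

/-- A unique maximal invariant subgroup gives a strongly embedded subgroup. -/
theorem exists_stronglyEmbedded_of_invariant (hna : ¬ IsMulCommutative G)
    (h4 : 4 ≤ Nat.card (T : Subgroup G)) {R : Subgroup G} (hR : IsPGroup p R)
    (hinv : Subgroup.normalizer ((T : Subgroup G) : Set G) ≤ Subgroup.normalizer (R : Set G))
    (hK : ∀ t ∈ (T : Subgroup G), t ≠ 1 → coreP p (Subgroup.centralizer ({t} : Set G)) ≤ R) :
    ∃ M : Subgroup G, IsStronglyEmbedded M := by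
  haveI : Fact p.Prime := ⟨h.prime⟩
  haveI : Fact (Nat.Prime 2) := ⟨Nat.prime_two⟩
  rcases eq_or_ne R ⊥ with e | e
  · refine ⟨_, isStronglyEmbedded_of h T h4 (normalizer_ne_top hna ?_ ?_) le_rfl
      fun t ht ht1 => (hK t ht ht1).trans (e ▸ bot_le)⟩
    · exact fun e' => by rw [e', Subgroup.card_bot] at h4; omega
    · haveI := T.2.isNilpotent; infer_instance
  · refine ⟨_, isStronglyEmbedded_of h T h4 (normalizer_ne_top hna e ?_) hinv
      fun t ht ht1 => (hK t ht ht1).trans Subgroup.le_normalizer⟩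
    haveI := hR.isNilpotent; infer_instance

omit [IsSimpleGroup G] in
theorem tInv_map {X : Subgroup G} (hX : TInv p (T : Subgroup G) X) {n : G}
    (hn : n ∈ Subgroup.normalizer ((T : Subgroup G) : Set G)) :
    TInv p (T : Subgroup G) (X.map (MulAut.conj n).toMonoidHom) := by
  refine ⟨hX.1.map _, fun t ht => ?_⟩
  have ht' : n⁻¹ * t * n ∈ (T : Subgroup G) :=
    (Subgroup.mem_normalizer_iff.1 hn _).2 (by simpa [mul_assoc] using ht)
  have h1 := Subgroup.mem_normalizer_iff_map_conj_eq.1 (hX.2 ht')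
  rw [Subgroup.mem_normalizer_iff_map_conj_eq, Subgroup.map_map]
  conv_rhs => rw [← h1, Subgroup.map_map]
  congr 1
  ext x
  simp [mul_assoc]

omit [IsSimpleGroup G] in
theorem maximal_map {R : Subgroup G} (hR : Maximal (TInv p (T : Subgroup G)) R) {n : G}
    (hn : n ∈ Subgroup.normalizer ((T : Subgroup G) : Set G)) :
    Maximal (TInv p (T : Subgroup G)) (R.map (MulAut.conj n).toMonoidHom) := by
  refine ⟨tInv_map h T hR.1 hn, fun X hX hle => ?_⟩
  obtain ⟨R', hXR, hR'⟩ := exists_maximal h T hX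
  have h1 := hR.2 (tInv_map h T hR'.1 (inv_mem hn)) (fun x hx => by
    have := hXR (hle (Subgroup.mem_map_of_mem _ hx))
    exact ⟨_, this, by simp [mul_assoc]⟩)
  intro x hx
  obtain ⟨y, hy⟩ : ∃ y, y = n⁻¹ * x * n := ⟨_, rfl⟩
  refine ⟨y, h1 ⟨x, hXR hx, by simp [hy]⟩, by simp [hy, mul_assoc]⟩

omit [IsSimpleGroup G] in
theorem tInv_bot : TInv p (T : Subgroup G) (⊥ : Subgroup G) :=
  ⟨IsPGroup.of_bot, fun t _ => Subgroup.mem_normalizer_iff.2 fun x => by simp⟩

omit [IsSimpleGroup G] in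
/-- If `|T| ≥ 8`, or an element of odd order centralises `T`, then there is an invariant `p`-subgroup
containing every `O_p(C(t))` and normalised by `N(T)`. -/
theorem exists_invariant (h4 : 4 ≤ Nat.card (T : Subgroup G))
    (hcond : 8 ≤ Nat.card (T : Subgroup G) ∨
      ∃ x : G, x ≠ 1 ∧ Odd (orderOf x) ∧ ∀ t ∈ (T : Subgroup G), Commute t x) :
    ∃ R : Subgroup G, IsPGroup p R ∧
      Subgroup.normalizer ((T : Subgroup G) : Set G) ≤ Subgroup.normalizer (R : Set G) ∧
      ∀ t ∈ (T : Subgroup G), t ≠ 1 → coreP p (Subgroup.centralizer ({t} : Set G)) ≤ R := by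
  classical
  haveI : Fact (Nat.Prime 2) := ⟨Nat.prime_two⟩
  haveI : Fact p.Prime := ⟨h.prime⟩
  by_cases h8 : 8 ≤ Nat.card (T : Subgroup G)
  · obtain ⟨R, -, hR⟩ := exists_maximal h T (tInv_bot h T)
    have huniq : ∀ R', Maximal (TInv p (T : Subgroup G)) R' → R' = R := fun R' hR' =>
      maximal_eq h T h4 hR' hR (Or.inl h8)
    refine ⟨R, hR.1.1, ?_, ?_⟩
    · intro n hn
      rw [Subgroup.mem_normalizer_iff_map_conj_eq]
      exact huniq _ (maximal_map h T hR hn)
    · intro t ht ht1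
      obtain ⟨L, hL, hKL, -, -⟩ := exists_top_centralizer h T h4 ht ht1
      obtain ⟨R', hLR, hR'⟩ := exists_maximal h T hL
      exact hKL.trans (hLR.trans (huniq R' hR').le)
  obtain ⟨k, hk⟩ := card_sylow_two_pow h T
  have hc4 : Nat.card (T : Subgroup G) = 4 := by
    have : k < 3 := (Nat.pow_lt_pow_iff_right (by norm_num : 1 < 2)).1 (by rw [← hk]; omega)
    interval_cases k <;> omega
  have huniq : ∀ R R', Maximal (TInv p (T : Subgroup G)) R → Maximal (TInv p (T : Subgroup G)) R' →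
      ∀ x ∈ R, x ∈ R' → x ≠ 1 → R' = R := fun R R' hR hR' x hx hx' hx1 =>
    maximal_eq h T h4 hR' hR (Or.inr fun e => hx1 (by
      rw [← Subgroup.mem_bot, ← e]; exact ⟨hx', hx⟩))
  have hTn : ∀ t ∈ (T : Subgroup G), (T : Subgroup G) ≤
      Subgroup.normalizer (Subgroup.centralizer ({t} : Set G) : Set G) := fun t ht =>
    (sylow_le_centralizer_singleton h T ht).trans Subgroup.le_normalizer
  have hconj : ∀ (n : G), n ∈ Subgroup.normalizer ((T : Subgroup G) : Set G) → ∀ t ∈ (T : Subgroup G),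
      n * t * n⁻¹ ∈ (T : Subgroup G) := fun n hn t ht => (Subgroup.mem_normalizer_iff.1 hn t).1 ht
  · obtain ⟨x, hx1, hxo, hxc⟩ := hcond.resolve_left h8
    obtain ⟨s, hs, hs1⟩ := exists_ne_one_of_dvd_two h T h4 (U := (T : Subgroup G))
      (by rw [Subgroup.relIndex_self]; exact one_dvd _)
    have hz : ∀ z : G, Odd (orderOf z) → (∀ t ∈ (T : Subgroup G), Commute t z) →
        TInv p (T : Subgroup G) (Subgroup.zpowers z) := by
      intro z hzo hzc
      refine ⟨?_, fun t ht => ?_⟩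
      · obtain ⟨i, -, hi⟩ := (Nat.dvd_prime_pow h.prime).1 (orderOf_dvd_of_pow_eq_one
          (show z ^ (p ^ 1) = 1 by
            rw [pow_one]
            exact h.pow_of_commute_two (orderOf_two_of_mem h T hs hs1) (hzc s hs) hzo))
        exact IsPGroup.of_card (n := i) (by rw [Nat.card_zpowers, hi])
      · refine Subgroup.centralizer_le_normalizer _ (Subgroup.mem_centralizer_iff.2 ?_)
        rintro _ ⟨i, rfl⟩
        exact ((hzc t ht).zpow_right i).symm.eq
    have hmemL : ∀ z : G, Odd (orderOf z) → (∀ t ∈ (T : Subgroup G), Commute t z) →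
        ∀ {t : G}, t ∈ (T : Subgroup G) → ∀ {L : Subgroup G},
          (∀ X : Subgroup G, TInv p (T : Subgroup G) X → (∀ y ∈ X, Commute t y) → X ≤ L) → z ∈ L :=
      fun z hzo hzc t ht L hmax => hmax _ (hz z hzo hzc)
        (fun y hy => by obtain ⟨i, rfl⟩ := Subgroup.mem_zpowers_iff.1 hy; exact (hzc t ht).zpow_right i)
        (Subgroup.mem_zpowers z)
    obtain ⟨R, hxR, hR⟩ := exists_maximal h T (hz x hxo hxc)
    have hxR' : x ∈ R := hxR (Subgroup.mem_zpowers x)
    have hLR : ∀ t ∈ (T : Subgroup G), t ≠ 1 → ∀ L : Subgroup G, TInv p (T : Subgroup G) L →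
        (∀ X : Subgroup G, TInv p (T : Subgroup G) X → (∀ y ∈ X, Commute t y) → X ≤ L) → L ≤ R := by
      intro t ht _ L hL hmax
      obtain ⟨R', hLR', hR'⟩ := exists_maximal h T hL
      exact hLR'.trans (huniq R R' hR hR' x hxR' (hLR' (hmemL x hxo hxc ht hmax)) hx1).le
    refine ⟨R, hR.1.1, ?_, ?_⟩
    · intro n hn
      rw [Subgroup.mem_normalizer_iff_map_conj_eq]
      set x' := n * x * n⁻¹ with hx'
      have hx'o : Odd (orderOf x') := by
        rwa [hx', show n * x * n⁻¹ = MulAut.conj n x from rfl, MulEquiv.orderOf_eq]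
      have hx'c : ∀ t ∈ (T : Subgroup G), Commute t x' := by
        intro t ht
        have ht' : n⁻¹ * t * n ∈ (T : Subgroup G) := by
          have := hconj n⁻¹ (inv_mem hn) t ht
          rwa [inv_inv] at this
        have := (hxc _ ht').map (MulAut.conj n).toMonoidHom
        simpa [hx', mul_assoc] using this
      obtain ⟨L, hL, -, -, hmax⟩ := exists_top_centralizer h T h4 hs hs1
      exact huniq R _ hR (maximal_map h T hR hn) x' (hLR s hs hs1 L hL hmax (hmemL x' hx'o hx'c hs hmax))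
        ⟨x, hxR', rfl⟩ (fun e => hx1 (conj_eq_one_iff.1 e))
    · intro t ht ht1
      obtain ⟨L, hL, hKL, -, hmax⟩ := exists_top_centralizer h T h4 ht ht1
      exact hKL.trans (hLR t ht ht1 L hL hmax)

include T in
/-- **The classification.** -/
theorem simple_classify_aux (hna : ¬ IsMulCommutative G) :
    (∃ (F : Type) (_ : Field F) (_ : Fintype F) (n : ℕ), 2 ≤ n ∧ Fintype.card F = 2 ^ n ∧
      Nonempty (G ≃* Matrix.ProjectiveSpecialLinearGroup (Fin 2) F)) ∨
    (∃ (F : Type) (_ : Field F) (_ : Fintype F), Odd (Fintype.card F) ∧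
      Nonempty (G ≃* Matrix.ProjectiveSpecialLinearGroup (Fin 2) F)) := by
  classical
  haveI : Fact (Nat.Prime 2) := ⟨Nat.prime_two⟩
  haveI : Fact p.Prime := ⟨h.prime⟩
  have h4 := four_le_card_sylow hna h T
  have hsq := h.sylow_sq T
  have finish : (∃ M : Subgroup G, IsStronglyEmbedded M) →
      (∃ (F : Type) (_ : Field F) (_ : Fintype F) (n : ℕ), 2 ≤ n ∧ Fintype.card F = 2 ^ n ∧
        Nonempty (G ≃* Matrix.ProjectiveSpecialLinearGroup (Fin 2) F)) :=
    fun ⟨M, hM⟩ => list_of_stronglyEmbedded T hsq hM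
  by_cases hQ' : 8 ≤ Nat.card (T : Subgroup G) ∨
      ∃ x : G, x ≠ 1 ∧ Odd (orderOf x) ∧ ∀ t ∈ (T : Subgroup G), Commute t x
  · obtain ⟨R, hR, hN, hK⟩ := exists_invariant h T h4 hQ'
    exact Or.inl (finish (exists_stronglyEmbedded_of_invariant h T hna h4 hR hN hK))
  simp only [not_or] at hQ'
  obtain ⟨h8, hQ⟩ := hQ'
  obtain ⟨k, hk⟩ := card_sylow_two_pow h T
  have hc4 : Nat.card (T : Subgroup G) = 4 := by
    have : k < 3 := (Nat.pow_lt_pow_iff_right (by norm_num : 1 < 2)).1 (by rw [← hk]; omega)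
    interval_cases k <;> omega
  have huniq : ∀ R R', Maximal (TInv p (T : Subgroup G)) R → Maximal (TInv p (T : Subgroup G)) R' →
      ∀ x ∈ R, x ∈ R' → x ≠ 1 → R' = R := fun R R' hR hR' x hx hx' hx1 =>
    maximal_eq h T h4 hR' hR (Or.inr fun e => hx1 (by
      rw [← Subgroup.mem_bot, ← e]; exact ⟨hx', hx⟩))
  have hTn : ∀ t ∈ (T : Subgroup G), (T : Subgroup G) ≤
      Subgroup.normalizer (Subgroup.centralizer ({t} : Set G) : Set G) := fun t ht =>
    (sylow_le_centralizer_singleton h T ht).trans Subgroup.le_normalizer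
  have hconj : ∀ (n : G), n ∈ Subgroup.normalizer ((T : Subgroup G) : Set G) → ∀ t ∈ (T : Subgroup G),
      n * t * n⁻¹ ∈ (T : Subgroup G) := fun n hn t ht => (Subgroup.mem_normalizer_iff.1 hn t).1 ht
  replace hQ : ∀ x : G, Odd (orderOf x) → (∀ t ∈ (T : Subgroup G), Commute t x) → x = 1 :=
    fun x hxo hxc => by_contra fun hne => hQ ⟨x, hne, hxo, hxc⟩
  -- the four group
  haveI := Fintype.ofFinite ↥(T : Subgroup G)
  have hT3 : ∀ {a b c : G}, a ∈ (T : Subgroup G) → b ∈ (T : Subgroup G) → c ∈ (T : Subgroup G) →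
      a ≠ 1 → b ≠ 1 → a ≠ b → c ≠ 1 → c ≠ a → c ≠ b → ∀ t ∈ (T : Subgroup G), t ≠ 1 →
        t = a ∨ t = b ∨ t = c := by
    intro a b c ha hb hc ha1 hb1 hab hc1 hca hcb t ht ht1
    by_contra hno
    simp only [not_or] at hno
    obtain ⟨n1, n2, n3⟩ := hno
    have hle := Finset.card_le_univ
      ({1, ⟨a, ha⟩, ⟨b, hb⟩, ⟨c, hc⟩, ⟨t, ht⟩} : Finset ↥(T : Subgroup G))
    rw [← Nat.card_eq_fintype_card, hc4] at hle
    rw [Finset.card_insert_of_notMem, Finset.card_insert_of_notMem,
      Finset.card_insert_of_notMem, Finset.card_insert_of_notMem, Finset.card_singleton] at hle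
    · omega
    all_goals simp only [Finset.mem_insert, Finset.mem_singleton, Subtype.ext_iff,
      Subgroup.coe_one, not_or]
    · exact fun e => n3 e.symm
    · exact ⟨fun e => hcb e.symm, fun e => n2 e.symm⟩
    · exact ⟨hab, fun e => hca e.symm, fun e => n1 e.symm⟩
    · exact ⟨Ne.symm ha1, Ne.symm hb1, Ne.symm hc1, Ne.symm ht1⟩
  by_cases hcross : ∃ (R : Subgroup G) (a b : G), Maximal (TInv p (T : Subgroup G)) R ∧
      a ∈ (T : Subgroup G) ∧ b ∈ (T : Subgroup G) ∧ a ≠ 1 ∧ b ≠ 1 ∧ a ≠ b ∧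
      (∃ x ∈ R, x ≠ 1 ∧ Commute a x) ∧ ∃ x ∈ R, x ≠ 1 ∧ Commute b x
  · obtain ⟨R, a, b, hR, ha, hb, ha1, hb1, hab, hxa, hxb⟩ := hcross
    have meet : ∀ R', Maximal (TInv p (T : Subgroup G)) R' → ∀ t ∈ (T : Subgroup G), t ≠ 1 →
        ∀ x ∈ R', Commute t x → x ≠ 1 → ∀ L : Subgroup G, TInv p (T : Subgroup G) L →
        (∀ X : Subgroup G, TInv p (T : Subgroup G) X → (∀ y ∈ X, Commute t y) → X ≤ L) → L ≤ R' := by
      intro R' hR' t ht _ x hx htx hx1 L hL hmax
      obtain ⟨R'', hLR, hR''⟩ := exists_maximal h T hL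
      have hxL : x ∈ L := hmax _ (tInv_inf h T hR'.1 (hTn t ht))
        (fun y hy => (Subgroup.mem_centralizer_singleton_iff.1 hy.2).symm)
        ⟨hx, Subgroup.mem_centralizer_singleton_iff.2 htx.symm.eq⟩
      exact hLR.trans (huniq R' R'' hR' hR'' x hx (hLR hxL) hx1).le
    obtain ⟨xa, hxaR, hxa1, hxac⟩ := hxa
    obtain ⟨xb, hxbR, hxb1, hxbc⟩ := hxb
    have same : ∀ n ∈ Subgroup.normalizer ((T : Subgroup G) : Set G),
        R.map (MulAut.conj n).toMonoidHom = R := by
      intro n hn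
      have hn' := maximal_map h T hR hn
      have key : ∀ u y : G, u ∈ (T : Subgroup G) → u ≠ 1 → y ∈ R → y ≠ 1 → Commute u y →
          (n * u * n⁻¹ = a ∨ n * u * n⁻¹ = b) → R.map (MulAut.conj n).toMonoidHom = R := by
        intro u y hu hu1 hy hy1 huy hor
        have hy' : n * y * n⁻¹ ∈ R.map (MulAut.conj n).toMonoidHom := ⟨y, hy, rfl⟩
        have hc : Commute (n * u * n⁻¹) (n * y * n⁻¹) := huy.map (MulAut.conj n).toMonoidHom
        have hy1' : n * y * n⁻¹ ≠ 1 := fun e => hy1 (conj_eq_one_iff.1 e)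
        have fin : ∀ w xw : G, w ∈ (T : Subgroup G) → w ≠ 1 → xw ∈ R → xw ≠ 1 → Commute w xw →
            n * u * n⁻¹ = w → R.map (MulAut.conj n).toMonoidHom = R := by
          intro w xw hw hw1 hxw hxw1 hwc e
          rw [e] at hc
          obtain ⟨L, hL, -, -, hmax⟩ := exists_top_centralizer h T h4 hw hw1
          have h1 := meet R hR w hw hw1 xw hxw hwc hxw1 L hL hmax
          have h2 : n * y * n⁻¹ ∈ L := hmax _ (tInv_inf h T hn'.1 (hTn w hw))
            (fun z hz => (Subgroup.mem_centralizer_singleton_iff.1 hz.2).symm)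
            ⟨hy', Subgroup.mem_centralizer_singleton_iff.2 hc.symm.eq⟩
          exact huniq R _ hR hn' _ (h1 h2) hy' hy1'
        rcases hor with e | e
        · exact fin a xa ha ha1 hxaR hxa1 hxac e
        · exact fin b xb hb hb1 hxbR hxb1 hxbc e
      by_cases h1 : n * a * n⁻¹ = a ∨ n * a * n⁻¹ = b
      · exact key a xa ha ha1 hxaR hxa1 hxac h1
      refine key b xb hb hb1 hxbR hxb1 hxbc ?_
      simp only [not_or] at h1
      have hb' := hconj n hn b hb
      rcases hT3 ha hb (hconj n hn a ha) ha1 hb1 hab (fun e => ha1 (conj_eq_one_iff.1 e)) h1.1 h1.2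
        _ hb' (fun e => hb1 (conj_eq_one_iff.1 e)) with e | e | e
      · exact Or.inl e
      · exact Or.inr e
      · exact absurd (mul_left_cancel (mul_right_cancel e)).symm hab
    refine Or.inl (finish (exists_stronglyEmbedded_of_invariant h T hna h4 hR.1.1 ?_ ?_))
    · intro n hn
      rw [Subgroup.mem_normalizer_iff_map_conj_eq]
      exact same n hn
    · intro t ht ht1
      obtain ⟨L, hL, hKL, hLt, hmax⟩ := exists_top_centralizer h T h4 ht ht1
      refine hKL.trans ?_
      by_cases hta : t = a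
      · subst hta; exact meet R hR t ht ht1 xa hxaR hxac hxa1 L hL hmax
      by_cases htb : t = b
      · subst htb; exact meet R hR t ht ht1 xb hxbR hxbc hxb1 L hL hmax
      -- some `n ∈ N(T)` maps `a` or `b` to `t`
      obtain ⟨n, hn, u, hu, hu1, xu, hxu, hxu1, hxuc, hnu⟩ : ∃ n ∈ Subgroup.normalizer
          ((T : Subgroup G) : Set G), ∃ u ∈ (T : Subgroup G), u ≠ 1 ∧
            ∃ xu ∈ R, xu ≠ 1 ∧ Commute u xu ∧ n * u * n⁻¹ = t := by
        by_contra hno
        refine not_normalizer_le_centralizer hna T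
          (Cfsg.Agent.S0514.le_centralizer_of_sq T
            (fun x hx y hy => (commute_of_sq h.prime h.odd hsq hx hy).eq) fun g hg => ?_)
        have h3 := hT3 ha hb ht ha1 hb1 hab ht1 hta htb
        have ga : g * a * g⁻¹ = a ∨ g * a * g⁻¹ = b := by
          rcases h3 _ (hconj g hg a ha) (fun e => ha1 (conj_eq_one_iff.1 e)) with e | e | e
          · exact Or.inl e
          · exact Or.inr e
          · exact absurd ⟨g, hg, a, ha, ha1, xa, hxaR, hxa1, hxac, e⟩ hno
        have gb : g * b * g⁻¹ = a ∨ g * b * g⁻¹ = b := by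
          rcases h3 _ (hconj g hg b hb) (fun e => hb1 (conj_eq_one_iff.1 e)) with e | e | e
          · exact Or.inl e
          · exact Or.inr e
          · exact absurd ⟨g, hg, b, hb, hb1, xb, hxbR, hxb1, hxbc, e⟩ hno
        have hne : g * a * g⁻¹ ≠ g * b * g⁻¹ := fun e => hab (mul_left_cancel (mul_right_cancel e))
        have hsqa : g * (g * a * g⁻¹) * g⁻¹ = a ∧ g * (g * b * g⁻¹) * g⁻¹ = b := by
          rcases ga with e1 | e1
          · rcases gb with e2 | e2
            · exact absurd (e1.trans e2.symm) hne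
            · exact ⟨by rw [e1, e1], by rw [e2, e2]⟩
          · rcases gb with e2 | e2
            · exact ⟨by rw [e1, e2], by rw [e2, e1]⟩
            · exact absurd (e1.trans e2.symm) hne
        rw [Subgroup.mem_centralizer_iff]
        intro w hw
        rcases eq_or_ne w 1 with rfl | hw1
        · simp
        have e' : ∀ z : G, g * g * z * (g * g)⁻¹ = g * (g * z * g⁻¹) * g⁻¹ := fun z => by group
        have hw3 : g * g * w * (g * g)⁻¹ = w := by
          have key : ∀ z ∈ ({a, b} : Set G), g * g * z * (g * g)⁻¹ = z := by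
            rintro z (rfl | rfl)
            · rw [e']; exact hsqa.1
            · rw [e']; exact hsqa.2
          rcases h3 w hw hw1 with rfl | rfl | rfl
          · exact key _ (Or.inl rfl)
          · exact key _ (Or.inr rfl)
          · rcases h3 _ (hconj _ (mul_mem hg hg) w hw) (fun e => hw1 (conj_eq_one_iff.1 e)) with e | e | e
            · exact absurd (mul_left_cancel (mul_right_cancel (e.trans (key a (Or.inl rfl)).symm))) hta
            · exact absurd (mul_left_cancel (mul_right_cancel (e.trans (key b (Or.inr rfl)).symm))) htb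
            · exact e
        exact (mul_inv_eq_iff_eq_mul.1 hw3).symm
      obtain ⟨Lu, hLu, -, -, hmaxu⟩ := exists_top_centralizer h T h4 hu hu1
      have h1 := meet R hR u hu hu1 xu hxu hxuc hxu1 Lu hLu hmaxu
      intro y hy
      have h2 : n⁻¹ * y * n ∈ Lu := hmaxu _ (tInv_map h T hL (inv_mem hn))
        (by
          rintro _ ⟨z, hz, rfl⟩
          have := (hLt z hz).map (MulAut.conj n⁻¹).toMonoidHom
          rw [← hnu] at this
          simpa [mul_assoc] using this)
        ⟨y, hy, by simp⟩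
      have h3 : n * (n⁻¹ * y * n) * n⁻¹ ∈ R.map (MulAut.conj n).toMonoidHom :=
        ⟨_, h1 h2, rfl⟩
      rw [same n hn] at h3
      simpa [mul_assoc] using h3
  -- the case of `PSL₂(q)`
  right
  obtain ⟨a, ha, ha1⟩ := exists_ne_one_of_dvd_two h T h4 (U := (T : Subgroup G))
    (by rw [Subgroup.relIndex_self]; exact one_dvd _)
  have hao := orderOf_two_of_mem h T ha ha1
  set C := Subgroup.centralizer ({a} : Set G) with hC
  set O := coreP p C with hO
  have hTC := sylow_le_centralizer_singleton h T ha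
  have hOT : TInv p (T : Subgroup G) O :=
    ⟨isPGroup_coreP C, fun t ht => le_normalizer_core h.prime h.odd (hTC ht)⟩
  have hOa : ∀ x ∈ O, Commute a x := fun x hx =>
    (Subgroup.mem_centralizer_singleton_iff.1 (coreP_le C hx)).symm
  have hOodd : ∀ x ∈ O, Odd (orderOf x) := fun x hx =>
    odd_orderOf_of_isPGroup h.prime h.odd hOT.1 hx
  -- an element of a maximal subgroup through `O` commuting with another involution is trivial
  have hnocross : ∀ R, Maximal (TInv p (T : Subgroup G)) R → (∃ x ∈ R, x ∈ O ∧ x ≠ 1) →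
      ∀ s ∈ (T : Subgroup G), s ≠ 1 → s ≠ a → ∀ x ∈ R, Commute s x → x = 1 := by
    rintro R hR ⟨x, hx, hxO, hx1⟩ s hs hs1 hsa z hz hzc
    by_contra hz1
    exact hcross ⟨R, a, s, hR, ha, hs, ha1, hs1, Ne.symm hsa, ⟨x, hx, hx1, hOa x hxO⟩, z, hz, hz1, hzc⟩
  have hfree : ∀ s ∈ (T : Subgroup G), s ≠ 1 → s ≠ a → ∀ x ∈ O, Commute s x → x = 1 := by
    intro s hs hs1 hsa x hx hc
    by_contra hx1
    obtain ⟨R, hOR, hR⟩ := exists_maximal h T hOT
    exact hx1 (hnocross R hR ⟨x, hOR hx, hx, hx1⟩ s hs hs1 hsa x (hOR hx) hc)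
  have hinv : ∀ s ∈ (T : Subgroup G), s ≠ 1 → s ≠ a → ∀ y ∈ O, s * y * s⁻¹ = y⁻¹ := by
    intro s hs hs1 hsa
    have hss := hsq s hs
    have hsi : s⁻¹ = s := inv_eq_of_mul_eq_one_right hss
    have hsO : ∀ x ∈ O, s * x * s ∈ O := fun x hx => by
      have := (Subgroup.mem_normalizer_iff.1 (hOT.2 hs) x).1 hx
      rwa [hsi] at this
    set f : ↥O → ↥O := fun x => ⟨(x : G)⁻¹ * (s * x * s), mul_mem (inv_mem x.2) (hsO x x.2)⟩ with hf
    have hinj : Function.Injective f := by
      intro x y e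
      have e1 : (x : G)⁻¹ * (s * x * s) = (y : G)⁻¹ * (s * y * s) := congrArg Subtype.val e
      refine Subtype.ext (mul_inv_eq_one.1 (hfree s hs hs1 hsa _ (mul_mem x.2 (inv_mem y.2)) ?_))
      show s * ((x : G) * (y : G)⁻¹) = (x : G) * (y : G)⁻¹ * s
      have e2 : (y : G) * (x : G)⁻¹ * (s * x * s) = s * y * s := by
        rw [mul_assoc, e1, mul_inv_cancel_left]
      calc s * ((x : G) * (y : G)⁻¹)
          = (x : G) * (y : G)⁻¹ * ((y : G) * (x : G)⁻¹ * (s * x * s)) * (s * s)⁻¹ * s * (y : G)⁻¹ := by group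
        _ = (x : G) * (y : G)⁻¹ * (s * y * s) * s * (y : G)⁻¹ := by rw [e2, hss, inv_one, mul_one]
        _ = (x : G) * (y : G)⁻¹ * s := by simp [mul_assoc, hss]
    intro y hy
    obtain ⟨x, hx⟩ := (Finite.injective_iff_surjective.1 hinj) ⟨y, hy⟩
    have e : (x : G)⁻¹ * (s * x * s) = y := congrArg Subtype.val hx
    rw [hsi, ← e]
    simp only [mul_inv_rev, inv_inv, hsi, mul_assoc, hss, mul_one]
  haveI hkl : IsKleinFour ↥(T : Subgroup G) := by
    refine ⟨hc4, ?_⟩
    refine Nat.dvd_antisymm (Monoid.exponent_dvd_of_forall_pow_eq_one fun x => Subtype.ext ?_) ?_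
    · rw [Subgroup.coe_pow, pow_two]; exact hsq x x.2
    · have := Monoid.order_dvd_exponent (⟨a, ha⟩ : ↥(T : Subgroup G))
      rwa [Subgroup.orderOf_mk, hao] at this
  have hOcore : O = (Cfsg.oddCore C).map C.subtype := by
    rw [hO, coreP]
    congr 1
    refine le_antisymm (Constrained.le_pPrimeCore_of_not_dvd (p := 2) inferInstance ?_)
      (Constrained.le_pCore (Cfsg.pPrimeCore_normal 2 ↥C) ?_)
    · intro h2
      obtain ⟨x, hx⟩ := exists_prime_orderOf_dvd_card' (G := ↥(Cfsg.pCore p ↥C)) 2 h2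
      obtain ⟨j, hj⟩ := IsPGroup.iff_orderOf.1 (Constrained.isPGroup_pCore (G := ↥C) (p := p)) x
      rw [hx] at hj
      have := Nat.eq_one_of_dvd_coprimes
        (((Nat.coprime_primes h.prime Nat.prime_two).2 h.odd).pow_left j) (dvd_of_eq hj) dvd_rfl
      omega
    · intro x
      refine ⟨1, Subtype.ext (Subtype.ext ?_)⟩
      rw [pow_one]
      refine h.narrow_centralizer hao _ (x : ↥C).2 ?_
      rw [Subgroup.orderOf_coe, Subgroup.orderOf_coe]
      exact Odd.of_dvd_nat (Nat.not_even_iff_odd.1 fun he =>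
        Constrained.pPrimeCore_not_dvd (p := 2) (even_iff_two_dvd.1 he)) (orderOf_dvd_natCard x)
  refine Cfsg.Agent.S0508.result T 2 le_rfl IsKleinFour.nonempty_mulEquiv a hao ha
    (fun s hs => (commute_of_sq h.prime h.odd hsq hs ha).eq) O hOcore ?_ ?_ ?_
  · intro hO1
    obtain ⟨x, hx, hx1⟩ := O.bot_or_exists_ne_one.resolve_left hO1
    have heq : (T : Subgroup G) ⊓ Subgroup.centralizer (O : Set G) = Subgroup.zpowers a := by
      refine le_antisymm (fun s hs => ?_) (Subgroup.zpowers_le.2 ⟨ha,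
        Subgroup.mem_centralizer_iff.2 fun y hy => (hOa y hy).symm.eq⟩)
      rcases eq_or_ne s 1 with rfl | hs1
      · exact one_mem _
      by_contra hsa
      exact hx1 (hfree s hs.1 hs1 (fun e => hsa (e ▸ Subgroup.mem_zpowers a)) x hx
        (Subgroup.mem_centralizer_iff.1 hs.2 x hx).symm)
    rw [heq]
    refine ⟨inferInstance, ?_⟩
    have := Subgroup.card_mul_index ((Subgroup.zpowers a).subgroupOf (T : Subgroup G))
    rw [Nat.card_congr (Subgroup.subgroupOfEquivOfLe (Subgroup.zpowers_le.2 ha)).toEquiv,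
      Nat.card_zpowers, hao, hc4] at this
    rw [Subgroup.relIndex]
    omega
  · intro s hs hsc
    refine hinv s hs (fun e => hsc (e ▸ one_mem _)) fun e => hsc (e ▸ ?_)
    exact Subgroup.mem_centralizer_iff.2 fun y hy => (hOa y hy).symm.eq
  · intro Y hY hY1
    obtain ⟨y, hy, hy1⟩ := Y.bot_or_exists_ne_one.resolve_left hY1
    obtain ⟨b, hb, hb1, hba⟩ : ∃ b ∈ (T : Subgroup G), b ≠ 1 ∧ b ≠ a := by
      by_contra hno
      have : (T : Subgroup G) ≤ Subgroup.zpowers a := by
        intro b hb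
        rcases eq_or_ne b 1 with rfl | hb1
        · exact one_mem _
        by_cases hba : b = a
        · exact hba ▸ Subgroup.mem_zpowers a
        exact absurd ⟨b, hb, hb1, hba⟩ hno
      have := Subgroup.card_le_of_le this
      rw [Nat.card_zpowers, hao, hc4] at this
      omega
    have hYT : TInv p (T : Subgroup G) Y := by
      refine ⟨hOT.1.to_le hY, fun s hs => ?_⟩
      rw [Subgroup.mem_normalizer_iff]
      have step : ∀ z ∈ Y, s * z * s⁻¹ ∈ Y := by
        intro z hz
        by_cases hs' : s = 1 ∨ s = a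
        · have hc : Commute s z := by
            rcases hs' with rfl | rfl
            · exact Commute.one_left z
            · exact hOa z (hY hz)
          rw [hc.eq, mul_inv_cancel_right]; exact hz
        simp only [not_or] at hs'
        rw [hinv s hs hs'.1 hs'.2 z (hY hz)]
        exact inv_mem hz
      refine fun z => ⟨step z, fun hz => ?_⟩
      have h1 := step _ hz
      have hss := hsq s hs
      rwa [inv_eq_of_mul_eq_one_right hss, show s * (s * z * s) * s = (s * s) * z * (s * s) by group,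
        hss, one_mul, mul_one] at h1
    have hYc : ¬ (T : Subgroup G) ≤ Subgroup.centralizer (Y : Set G) := fun hle =>
      hy1 (hfree b hb hb1 hba y (hY hy) (Subgroup.mem_centralizer_iff.1 (hle hb) y hy).symm)
    obtain ⟨K, hK, hKodd, hdec⟩ := exists_complement h T hc4 hYT hYc
    obtain ⟨R, hKR, hR⟩ := exists_maximal h T hK
    have hyR : y ∈ R := hKR (hKodd y (Subgroup.le_normalizer hy) (hOodd y (hY hy)))
    have hRC : R ≤ C := by
      refine (Hyperplane.le_iSup_centralizer (isElementaryAbelian_sylow h T) (fun h2 => ?_) hR.1.2).trans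
        (iSup_le fun U z hz => ?_)
      · obtain ⟨z, hz⟩ := exists_prime_orderOf_dvd_card' (G := ↥R) 2 h2
        have := odd_orderOf_of_isPGroup h.prime h.odd hR.1.1 z.2
        rw [Subgroup.orderOf_coe, hz] at this
        exact Nat.not_even_iff_odd.2 this even_two
      · obtain ⟨u, hu, hu1⟩ := exists_ne_one_of_dvd_two h T h4 U.2.2
        have huz : Commute u z := Subgroup.mem_centralizer_iff.1 hz.2 u hu
        by_cases hua : u = a
        · exact Subgroup.mem_centralizer_singleton_iff.2 (hua ▸ huz).symm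
        · rw [hnocross R hR ⟨y, hyR, hY hy, hy1⟩ u (U.2.1 hu) hu1 hua z hz.1 huz]
          exact one_mem _
    intro g hg
    obtain ⟨k, hk, t, ht, rfl⟩ := hdec g hg
    exact mul_mem (hRC (hKR hk)) (hTC ht)

omit h T in
/-- Simple groups in which elements of even order and of order divisible by `p` have order
dividing `2p`. -/
theorem simple_classify (h : TwoP p G) (hna : ¬ IsMulCommutative G) :
    (∃ (F : Type) (_ : Field F) (_ : Fintype F) (n : ℕ), 2 ≤ n ∧ Fintype.card F = 2 ^ n ∧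
      Nonempty (G ≃* Matrix.ProjectiveSpecialLinearGroup (Fin 2) F)) ∨
    (∃ (F : Type) (_ : Field F) (_ : Fintype F), Odd (Fintype.card F) ∧
      Nonempty (G ≃* Matrix.ProjectiveSpecialLinearGroup (Fin 2) F)) :=
  simple_classify_aux h (Classical.arbitrary (Sylow 2 G)) hna

end Simple

end CfsgLib.CITTwoP
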